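import Cfsg.Agent.S0165
import Cfsg.Agent.H419.Count
import Cfsg.Agent.H665.DefZero
import Cfsg.Prelude.Def_KGroupFacts

/-!
# Rows of the table of vanishing elements (helper419)

* `DZ p S` : `S` has an irreducible character of `p`-defect zero.
* `vz_of_dz` : then every element of order divisible by `p` is a `VZ` element.
* `EvMix S` : there is a `VZ` element whose order is even and not a power of two.
-/

set_option autoImplicit false

namespace Cfsg.Agent.H419.Row

open Cfsg Cfsg.Agent.Characters.Core Cfsg.Agent.H713 Cfsg.Agent.H419.Count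
open scoped ComplexConjugate

/-- `S` has an irreducible character of `p`-defect zero. -/
def DZ (p : ℕ) (S : Type*) [Group S] : Prop :=
  ∃ χ : IrrCharacter S, (charDegree (χ : S → ℂ)).factorization p = (Nat.card S).factorization p

/-- There is a `VZ` element whose order is even and not a power of two. -/
def EvMix (S : Type*) [Group S] : Prop :=
  ∃ x : S, VZ S x ∧ 2 ∣ orderOf x ∧ ∃ p : ℕ, p.Prime ∧ p ≠ 2 ∧ p ∣ orderOf x

variable {S : Type*} [Group S]

/-- A character of `p`-defect zero vanishes at the elements of order divisible by `p`. -/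
theorem irr_eq_zero_of_dz [Finite S] {p : ℕ} (hp : p.Prime) {χ : S → ℂ} (hχ : IsIrrCharacter S χ)
    (h : (charDegree χ).factorization p = (Nat.card S).factorization p) {x : S}
    (hx : p ∣ orderOf x) : χ x = 0 := by
  obtain ⟨n, ρ, hρ, rfl⟩ := hχ
  refine Cfsg.Agent.S0165.result ρ p ((Nat.card S).factorization p) hp (Nat.ordProj_dvd _ _)
    (Nat.pow_succ_factorization_not_dvd Nat.card_pos.ne' hp) ?_ x hx
  have h1 : charDegree ρ.character = Module.finrank ℂ (Fin n → ℂ) := by
    apply Cfsg.Agent.Blocks.Basic.charDegree_of_eq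
    exact Representation.char_one _
  rw [← h1, ← h]
  exact Nat.ordProj_dvd _ _

/-- Elements of order divisible by `p` are `VZ` elements if there is a character of `p`-defect zero. -/
theorem vz_of_dz [Finite S] {p : ℕ} (hp : p.Prime) (h : DZ p S) {x : S} (hx : p ∣ orderOf x) :
    VZ S x := by
  obtain ⟨χ, h⟩ := h
  refine ⟨χ, fun α => irr_eq_zero_of_dz hp χ.2 h ?_⟩
  rwa [MulEquiv.orderOf_eq]

/-- Convenient criterion: a degree divisible by the `p`-part of the group order. -/
theorem dz_of_dvd [Finite S] {p n : ℕ} (χ : IrrCharacter S)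
    (h : p ^ n ∣ charDegree (χ : S → ℂ)) (hn : (Nat.card S).factorization p = n) (hp : p.Prime) :
    DZ p S := by
  refine ⟨χ, le_antisymm ?_ ?_⟩
  · exact (Nat.factorization_le_iff_dvd (Blocks.Basic.charDegree_pos χ.2).ne' Nat.card_pos.ne').2
      (Cfsg.Agent.Blocks.Knorr.charDegree_dvd χ.2) p
  · rw [hn]
    exact (hp.pow_dvd_iff_le_factorization (Blocks.Basic.charDegree_pos χ.2).ne').1 h

theorem DZ.mulEquiv {H : Type*} [Group H] (e : S ≃* H) {p : ℕ} (h : DZ p S) : DZ p H := by
  obtain ⟨χ, h⟩ := h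
  refine ⟨⟨(χ : S → ℂ) ∘ e.symm, isIrr_comp (e.symm : H →* S) e.symm.surjective χ.2⟩, ?_⟩
  rw [← Nat.card_congr e.toEquiv, ← h]
  congr 1
  rw [Blocks.Basic.charDegree_def, Blocks.Basic.charDegree_def]
  simp

theorem EvMix.mulEquiv {H : Type*} [Group H] (e : S ≃* H) (h : EvMix S) : EvMix H := by
  obtain ⟨x, h1, h2, p, hp, hp2, h3⟩ := h
  refine ⟨e x, h1.mulEquiv e, ?_, p, hp, hp2, ?_⟩ <;> rwa [MulEquiv.orderOf_eq]

theorem evMix_of_order {x : S} {p : ℕ} (hv : VZ S x) (hp : p.Prime) (hp2 : p ≠ 2)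
    (hx : orderOf x = 2 * p) : EvMix S :=
  ⟨x, hv, hx ▸ Dvd.intro _ rfl, p, hp, hp2, hx ▸ Dvd.intro_left _ rfl⟩

theorem evMix_of_dz [Finite S] {x : S} {p : ℕ} (h : DZ p S) (hp : p.Prime) (hp2 : p ≠ 2)
    (h1 : 2 ∣ orderOf x) (h2 : p ∣ orderOf x) : EvMix S :=
  ⟨x, vz_of_dz hp h h2, h1, p, hp, hp2, h2⟩

theorem evMix_of_dz' [Finite S] {x : S} {p : ℕ} (h : DZ p S) (hp : p.Prime) (hp2 : p ≠ 2)
    (hx : orderOf x = 2 * p) : EvMix S :=
  evMix_of_order (vz_of_dz hp h (hx ▸ Dvd.intro_left _ rfl)) hp hp2 hx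

theorem factorization_eq {N p n m : ℕ} (hp : p.Prime) (hN : N = p ^ n * m) (hm : ¬ p ∣ m) :
    N.factorization p = n := by
  have hm0 : m ≠ 0 := by
    rintro rfl
    exact hm (dvd_zero p)
  rw [hN, Nat.factorization_mul (pow_ne_zero _ hp.pos.ne') hm0, Nat.factorization_pow]
  simp [hp.factorization_self, Nat.factorization_eq_zero_of_not_dvd hm]

/-- An element of order `2 * p` from an element of order `p` with centralizer of even order. -/
theorem exists_two_mul [Finite S] {y : S} {p : ℕ} (hp : p.Prime) (hp2 : p ≠ 2)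
    (hy : orderOf y = p) (h2 : 2 ∣ Nat.card (Subgroup.centralizer ({y} : Set S))) :
    ∃ z : S, orderOf z = 2 ∧ z * y = y * z ∧ orderOf (z * y) = 2 * p := by
  obtain ⟨⟨z, hz⟩, hz2⟩ := exists_prime_orderOf_dvd_card' 2 h2
  have h1 : orderOf z = 2 := by
    rw [← hz2]
    exact (Subgroup.orderOf_mk z hz).symm
  have hc : Commute z y := (Subgroup.mem_centralizer_singleton_iff.1 hz)
  refine ⟨z, h1, hc, ?_⟩
  have hcop : (orderOf z).Coprime (orderOf y) := by
    rw [h1, hy]
    exact (Nat.coprime_primes Nat.prime_two hp).2 (Ne.symm hp2)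
  rw [hc.orderOf_mul_eq_mul_orderOf_of_coprime hcop, h1, hy]

/-- The centralizer of a product of commuting elements of coprime orders. -/
theorem centralizer_mul [Finite S] {x y : S} (h : Commute x y)
    (hc : (orderOf x).Coprime (orderOf y)) :
    Subgroup.centralizer ({x * y} : Set S) =
      Subgroup.centralizer ({x} : Set S) ⊓ Subgroup.centralizer ({y} : Set S) := by
  ext g
  rw [Subgroup.mem_inf, Subgroup.mem_centralizer_singleton_iff,
    Subgroup.mem_centralizer_singleton_iff, Subgroup.mem_centralizer_singleton_iff]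
  constructor
  · intro hg
    have hg' : Commute g (x * y) := hg
    have h1 : ∃ k : ℕ, (x * y) ^ k = x := by
      obtain ⟨k, hk1, hk2⟩ := Nat.chineseRemainder hc 1 0
      refine ⟨k, ?_⟩
      rw [h.mul_pow, (pow_eq_pow_iff_modEq).2 hk1, (pow_eq_pow_iff_modEq).2 hk2]
      simp
    obtain ⟨k, hk⟩ := h1
    have h2 : Commute g x := hk ▸ hg'.pow_right k
    refine ⟨h2, ?_⟩
    have h3 : Commute g (x⁻¹ * (x * y)) := (h2.inv_right).mul_right hg'
    rw [inv_mul_cancel_left] at h3
    exact h3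
  · rintro ⟨h1, h2⟩
    exact (Commute.mul_right h1 h2 : Commute g (x * y))

/-- Vanishing of `z * y` from the number of elements commuting with both factors. -/
theorem van_mul_of_orders [Finite S] {z y : S} (h : Commute z y)
    (hc : (orderOf z).Coprime (orderOf y)) (s : Finset ℕ) (hs : ∀ n ∈ s, ∃ g : S, orderOf g = n)
    (hcard : Nat.card {g : S // g * z = z * g ∧ g * y = y * g} < s.card) : Van S (z * y) := by
  refine van_of_orders s hs ?_
  rw [centralizer_mul h hc]
  refine lt_of_le_of_lt (le_of_eq ?_) hcard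
  refine Nat.card_congr (Equiv.subtypeEquivRight fun g => ?_)
  rw [Subgroup.mem_inf, Subgroup.mem_centralizer_singleton_iff,
    Subgroup.mem_centralizer_singleton_iff]

/-- `Out S = 1` in the form used by `vz_of_inner`. -/
theorem inner_of_out (h : Nat.card (Cfsg.Out S) = 1) : ∀ α : MulAut S, ∃ g : S, α = MulAut.conj g := by
  have h1 : Cfsg.Inn S = ⊤ := Subgroup.index_eq_one.1 h
  intro α
  have h2 : α ∈ Cfsg.Inn S := h1 ▸ Subgroup.mem_top α
  obtain ⟨g, hg⟩ := h2
  exact ⟨g, hg.symm⟩

end Cfsg.Agent.H419.Row
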