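import Cfsg.Agent.H419.RowC
import Cfsg.Agent.S0139
import Cfsg.Agent.SigZeroCo2.Lin
import Cfsg.Agent.PermutationGroups.Subdegree

/-!
# The 24-dimensional character of subgroups of `Co0`

* `irr_of_restrict` : a character of a simple group whose restriction to a subgroup `H` is
  `a * 1 + θ`, `θ` irreducible, is `m * 1 + μ` with `μ` irreducible.
* `repC`, `lchi` : the complex representation of `Co0` and its character.
-/

set_option autoImplicit false

namespace Cfsg.Agent.H419.LeechIrr

open Cfsg Cfsg.Agent.H713 Cfsg.Agent.Characters.Core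
open scoped ComplexConjugate

variable {G : Type*} [Group G]

/-- An irreducible character of a simple group which takes the value of its degree at an element
`k ≠ 1` is principal. -/
theorem eq_one_of_const [Finite G] [IsSimpleGroup G] {ψ : G → ℂ} (hψ : IsIrrCharacter G ψ) {k : G}
    (hk : k ≠ 1) (h : ψ k = ψ 1) : ψ = 1 := by
  classical
  have := Fintype.ofFinite G
  obtain ⟨n, ρ, hρ, rfl⟩ := hψ
  have h1 : ρ.character 1 = n := by
    rw [Representation.char_one]
    simp
  have hker : ∀ g, ρ.character g = n ↔ g ∈ ρ.ker := by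
    intro g
    have := Cfsg.Agent.S0139.result ρ g
    rw [MonoidHom.mem_ker]
    simpa [Module.End.one_eq_id] using this
  have htop : (ρ.ker : Subgroup G) = ⊤ := by
    rcases IsSimpleGroup.eq_bot_or_eq_top_of_normal ρ.ker inferInstance with h2 | h2
    · exfalso
      have h3 : k ∈ ρ.ker := (hker k).1 (h.trans h1)
      rw [h2, Subgroup.mem_bot] at h3
      exact hk h3
    · exact h2
  have hc : ∀ g, ρ.character g = n := fun g => (hker g).2 (htop ▸ Subgroup.mem_top g)
  have h2 := classInner_irr_self (χ := ρ.character) ⟨n, ρ, hρ, rfl⟩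
  rw [classInner_def] at h2
  simp only [hc, Complex.conj_natCast, Finset.sum_const, Finset.card_univ, nsmul_eq_mul] at h2
  rw [Nat.card_eq_fintype_card, ← mul_assoc, inv_mul_cancel₀ (by
    exact_mod_cast Fintype.card_ne_zero), one_mul] at h2
  have h3 : n * n = 1 := by exact_mod_cast h2
  have h4 : n = 1 := Nat.eq_one_of_mul_eq_one_left h3
  funext g
  rw [hc g, h4]
  simp

/-- The decomposition of a character of a simple group from the restriction to a subgroup. -/
theorem irr_of_restrict [Fintype G] [IsSimpleGroup G] {H : Type*} [Group H] [Finite H] (f : H →* G)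
    (hf : ∃ h, f h ≠ 1) {χ : G → ℂ} (hχ : IsCharacter G χ) {θ : H → ℂ} (hθ : IsIrrCharacter H θ)
    (hθ1 : θ ≠ 1) {a : ℂ} (hres : ∀ h, χ (f h) = a + θ h) :
    ∃ μ : IrrCharacter G, ∀ g, χ g = classInner χ 1 + (μ : G → ℂ) g := by
  classical
  have := Fintype.ofFinite H
  have : Finite (IrrCharacter G) := finite_irr
  have := Fintype.ofFinite (IrrCharacter G)
  obtain ⟨m, hm⟩ := exists_nat_comb hχ
  have hθH : ∀ η : H → ℂ, IsIrrCharacter H η → η ≠ 1 → classInner (χ ∘ f) η = if η = θ then 1 else 0 := by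
    intro η hη hη1
    have h1 : χ ∘ f = a • (1 : H → ℂ) + θ := by
      funext h
      simp [hres]
    rw [h1, classInner_add_left, classInner_smul_left, classInner_irr_ne isIrr_one hη (Ne.symm hη1),
      mul_zero, zero_add, classInner_irr hθ hη]
    by_cases h2 : η = θ
    · rw [if_pos h2, if_pos h2.symm]
    · rw [if_neg h2, if_neg (Ne.symm h2)]
  have hsum : ∀ η : H → ℂ, classInner (χ ∘ f) η =
      ∑ ψ : IrrCharacter G, (m ψ : ℂ) * classInner ((ψ : G → ℂ) ∘ f) η := by
    intro η
    have h1 : χ ∘ f = ∑ ψ : IrrCharacter G, (m ψ : ℂ) • ((ψ : G → ℂ) ∘ f) := by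
      funext h
      rw [hm]
      simp [Finset.sum_apply]
    rw [h1, classInner_sum_left]
    exact Finset.sum_congr rfl fun ψ _ => classInner_smul_left _ _ _
  -- natural numbers
  have hnat : ∀ (η : H → ℂ) (ψ : IrrCharacter G), IsIrrCharacter H η →
      ∃ n : ℕ, classInner ((ψ : G → ℂ) ∘ f) η = n := fun η ψ hη =>
    classInner_isNat (isCharacter_comp f (isIrr_isCharacter ψ.2)) (isIrr_isCharacter hη)
  choose! n hn using fun (ψ : IrrCharacter G) (η : H → ℂ) (hη : IsIrrCharacter H η) => hnat η ψ hη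
  have hsumN : ∀ η : H → ℂ, IsIrrCharacter H η → η ≠ 1 →
      ∑ ψ : IrrCharacter G, m ψ * n ψ η = if η = θ then 1 else 0 := by
    intro η hη hη1
    have h1 := hsum η
    rw [hθH η hη hη1, Finset.sum_congr rfl fun ψ _ => by rw [hn ψ η hη]] at h1
    have h2 : ((∑ ψ : IrrCharacter G, m ψ * n ψ η : ℕ) : ℂ) = ((if η = θ then 1 else 0 : ℕ) : ℂ) := by
      push_cast
      rw [← h1]
    exact_mod_cast h2
  -- the constituent
  obtain ⟨μ, hμ⟩ : ∃ μ : IrrCharacter G, m μ * n μ θ ≠ 0 := by
    by_contra hcon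
    push Not at hcon
    have h1 := hsumN θ hθ hθ1
    rw [Finset.sum_eq_zero fun ψ _ => hcon ψ, if_pos rfl] at h1
    exact absurd h1 (by norm_num)
  have hμ1 : m μ * n μ θ = 1 ∧ ∀ ψ : IrrCharacter G, ψ ≠ μ → m ψ * n ψ θ = 0 := by
    have h1 := hsumN θ hθ hθ1
    rw [if_pos rfl, ← Finset.add_sum_erase _ _ (Finset.mem_univ μ)] at h1
    have h2 : m μ * n μ θ = 1 := by omega
    refine ⟨h2, fun ψ hψ => ?_⟩
    have h3 : ∑ ψ ∈ Finset.univ.erase μ, m ψ * n ψ θ = 0 := by omega
    exact (Finset.sum_eq_zero_iff.1 h3) ψ (Finset.mem_erase.2 ⟨hψ, Finset.mem_univ ψ⟩)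
  have hmμ : m μ = 1 := Nat.eq_one_of_mul_eq_one_right hμ1.1
  obtain ⟨h0, hh0⟩ := hf
  have hother : ∀ ψ : IrrCharacter G, ψ ≠ μ → m ψ ≠ 0 → (ψ : G → ℂ) = 1 := by
    intro ψ hψ hm0
    refine eq_one_of_const ψ.2 hh0 ?_
    -- the restriction is a multiple of the principal character
    have hz : ∀ η : H → ℂ, IsIrrCharacter H η → η ≠ 1 → classInner ((ψ : G → ℂ) ∘ f) η = 0 := by
      intro η hη hη1
      have h2 : m ψ * n ψ η = 0 := by
        by_cases h3 : η = θ
        · rw [h3]
          exact hμ1.2 ψ hψ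
        · have h1 := hsumN η hη hη1
          rw [if_neg h3] at h1
          exact (Finset.sum_eq_zero_iff.1 h1) ψ (Finset.mem_univ ψ)
      rw [hn ψ η hη]
      exact_mod_cast (mul_eq_zero.1 h2).resolve_left hm0
    have hcl : IsClassFunction H ((ψ : G → ℂ) ∘ f) :=
      isCharacter_isClassFunction (isCharacter_comp f (isIrr_isCharacter ψ.2))
    have hcl1 : IsClassFunction H (classInner ((ψ : G → ℂ) ∘ f) 1 • (1 : H → ℂ)) := by
      intro x y
      simp
    have h5 : (ψ : G → ℂ) ∘ f = classInner ((ψ : G → ℂ) ∘ f) 1 • (1 : H → ℂ) := by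
      refine classFunction_ext hcl hcl1 fun η hη => ?_
      rw [classInner_smul_left]
      by_cases h6 : η = 1
      · rw [h6, classInner_irr_self isIrr_one, mul_one]
      · rw [hz η hη h6, classInner_irr_ne isIrr_one hη (Ne.symm h6), mul_zero]
    have h6 := congrFun h5 h0
    have h7 := congrFun h5 1
    simp only [Function.comp_apply, map_one, Pi.smul_apply, Pi.one_apply, smul_eq_mul, mul_one] at h6 h7
    rw [h6, h7]
  refine ⟨μ, fun g => ?_⟩
  -- `χ = m₁ + μ`
  by_cases hμ0 : (μ : G → ℂ) = 1
  · -- then everything is principal: contradiction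
    exfalso
    have h1 : classInner ((μ : G → ℂ) ∘ f) θ = 0 := by
      have : (μ : G → ℂ) ∘ f = 1 := by rw [hμ0]; rfl
      rw [this]
      exact classInner_irr_ne isIrr_one hθ (Ne.symm hθ1)
    rw [hn μ θ hθ] at h1
    have h2 : n μ θ = 0 := by exact_mod_cast h1
    rw [h2, mul_zero] at hμ
    exact hμ rfl
  · have h1 : ∀ g, χ g = ∑ ψ : IrrCharacter G, (m ψ : ℂ) * (ψ : G → ℂ) g := by
      intro g
      rw [hm]
      simp [Finset.sum_apply]
    let one : IrrCharacter G := ⟨1, isIrr_one⟩
    have hone : one ≠ μ := fun h => hμ0 (by rw [← h])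
    have h2 : ∀ g, χ g = (m one : ℂ) + (μ : G → ℂ) g := by
      intro g
      rw [h1 g, ← Finset.add_sum_erase _ _ (Finset.mem_univ μ),
        ← Finset.add_sum_erase _ _ (Finset.mem_erase.2 ⟨hone, Finset.mem_univ one⟩), hmμ,
        Finset.sum_eq_zero]
      · have : (one : G → ℂ) g = 1 := rfl
        rw [this]
        push_cast
        ring
      · intro ψ hψ
        rw [Finset.mem_erase, Finset.mem_erase] at hψ
        by_cases h3 : m ψ = 0
        · rw [h3]; simp
        · exact absurd (Subtype.ext (hother ψ hψ.2.1 h3)) hψ.1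
    have h3 : χ = (m one : ℂ) • (1 : G → ℂ) + (μ : G → ℂ) := by
      funext g
      rw [h2 g]
      simp
    have h4 : classInner χ 1 = m one := by
      rw [h3, classInner_add_left, classInner_smul_left, classInner_irr_self isIrr_one,
        classInner_irr_ne μ.2 isIrr_one hμ0]
      simp
    rw [h4, h2 g]

/-! ### the representation -/

open Cfsg.Agent.SigZeroCo2.Lin Cfsg.Agent.Co2Type.Mono Cfsg.Agent.SporadicStructure.Co0Base

theorem mat_one : mat 1 = 1 := by
  have h := rep.map_one
  have h1 : Matrix.toLin' (mat 1) = Matrix.toLin' 1 := by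
    rw [Matrix.toLin'_one]
    exact h
  exact Matrix.toLin'.injective h1

theorem mat_mul (g h : Co0) : mat (g * h) = mat g * mat h := by
  have h1 := rep.map_mul g h
  apply Matrix.toLin'.injective
  rw [Matrix.toLin'_mul]
  exact h1

/-- The complex matrices. -/
noncomputable def matC (g : Co0) : Matrix GolayPt GolayPt ℂ := (mat g).map (algebraMap ℚ ℂ)

/-- The complex representation. -/
noncomputable def repC : Co0 →* ((GolayPt → ℂ) →ₗ[ℂ] (GolayPt → ℂ)) where
  toFun g := Matrix.toLin' (matC g)
  map_one' := by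
    rw [matC, mat_one, Matrix.map_one _ (map_zero _) (map_one _), Matrix.toLin'_one]
    rfl
  map_mul' g h := by
    rw [matC, mat_mul, Matrix.map_mul, Matrix.toLin'_mul]
    rfl

theorem trace_repC (g : Co0) : LinearMap.trace ℂ _ (repC g) = (tr8 g : ℂ) / 8 := by
  show LinearMap.trace ℂ _ (Matrix.toLin' (matC g)) = _
  rw [Matrix.trace_toLin'_eq, Matrix.trace, tr8]
  simp only [Matrix.diag_apply, matC, mat, Matrix.map_apply]
  push_cast
  rw [Finset.sum_div]
  refine Finset.sum_congr rfl fun i _ => ?_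
  simp

/-- A lattice vector in the complex space. -/
def toC (v : leechLattice) : GolayPt → ℂ := fun i => (((v : GolayPt → ℤ) i : ℤ) : ℂ)

theorem repC_toC (g : Co0) (v : leechLattice) : repC g (toC v) = toC (g • v) := by
  have h := lin_toV g v
  have h1 : toC v = fun i => algebraMap ℚ ℂ (toV v i) := by
    funext i
    simp [toC, toV]
  have h2 : toC (g • v) = fun i => algebraMap ℚ ℂ (toV (g • v) i) := by
    funext i
    simp [toC, toV]
  rw [h2, ← h, h1]
  show Matrix.toLin' (matC g) _ = _
  funext j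
  rw [lin, Matrix.toLin'_apply, Matrix.toLin'_apply, Matrix.mulVec, Matrix.mulVec, dotProduct,
    dotProduct, map_sum]
  refine Finset.sum_congr rfl fun i _ => ?_
  rw [map_mul]
  rfl

theorem toC_injective : Function.Injective toC := by
  intro v w h
  apply Subtype.ext
  funext i
  have := congrFun h i
  simpa [toC] using this

/-- The character of a group mapping to `Co0`. -/
noncomputable def lchi (f : G →* Co0) : G → ℂ := fun g => (tr8 (f g) : ℂ) / 8

/-- The representation of a group mapping to `Co0`. -/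
noncomputable def rp (f : G →* Co0) : Representation ℂ G (GolayPt → ℂ) := repC.comp f

theorem lchi_eq (f : G →* Co0) : lchi f = (rp f).character := by
  funext g
  exact (trace_repC (f g)).symm

theorem isCharacter_lchi (f : G →* Co0) : IsCharacter G (lchi f) := by
  rw [lchi_eq]
  exact isCharacter_of_rep (rp f)

/-- The invariants. -/
noncomputable abbrev inv (f : G →* Co0) : Submodule ℂ (GolayPt → ℂ) :=
  Representation.invariants (rp f)

theorem classInner_lchi [Fintype G] (f : G →* Co0) :
    classInner (lchi f) 1 = (Module.finrank ℂ (inv f) : ℂ) := by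
  rw [lchi_eq]
  exact Cfsg.Agent.PermutationGroups.Subdegree.classInner_one_eq_finrank (rp f)

theorem toC_mem_inv {f : G →* Co0} {v : leechLattice} : toC v ∈ inv f ↔ ∀ g, f g • v = v := by
  rw [Representation.mem_invariants]
  refine forall_congr' fun g => ?_
  show repC (f g) (toC v) = toC v ↔ _
  rw [repC_toC]
  exact toC_injective.eq_iff

end Cfsg.Agent.H419.LeechIrr
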