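import Cfsg.Agent.S0157
import Cfsg.Agent.H419.Row

/-!
# Zeros of the 2-transitive character

* `van_of_fix_one` : in a 2-transitive action an element with exactly one fixed point is a zero of
  the irreducible character `fix - 1`.
-/

set_option autoImplicit false

namespace Cfsg.Agent.H419.TwoTrans

open Cfsg Cfsg.Agent.H713 Cfsg.Agent.H419.Row Cfsg.Agent.H419.Count

variable {G : Type*} [Group G] [Finite G]

theorem exists_irr (X : Type*) [MulAction G X] [Finite X]
    (h2 : MulAction.IsMultiplyPretransitive G X 2) (hX : 2 ≤ Nat.card X) :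
    ∃ θ : IrrCharacter G, ∀ g, (θ : G → ℂ) g = (Nat.card (MulAction.fixedBy X g) : ℂ) - 1 := by
  have : MulAction.IsPretransitive G X := by
    rw [← MulAction.is_one_pretransitive_iff]
    exact MulAction.isMultiplyPretransitive_of_le (n := 2) (by norm_num) hX
  exact ⟨⟨_, (Cfsg.Agent.S0157.result X hX).2 h2⟩, fun _ => rfl⟩

theorem van_of_fix_one (X : Type*) [MulAction G X] [Finite X]
    (h2 : MulAction.IsMultiplyPretransitive G X 2) (hX : 2 ≤ Nat.card X) {g : G}
    (hg : Nat.card (MulAction.fixedBy X g) = 1) : Van G g := by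
  obtain ⟨θ, hθ⟩ := exists_irr X h2 hX
  exact ⟨θ, by rw [hθ, hg]; simp⟩

end Cfsg.Agent.H419.TwoTrans
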