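import Cfsg.Agent.H419.LeechIrr
import Cfsg.Agent.H419.TwoTrans
import Cfsg.Agent.S0366
import Cfsg.Agent.KFacts.Co1.OctGen
import Cfsg.Agent.CoOneType.FrameFix

/-!
# Simple subgroups of `Co0` containing `M22` or `M23` as coordinate permutations

* `irr23` : `G` simple, fixing a lattice vector, containing `M23`: `χ - 1` is irreducible.
* `irr22` : `G` simple of order prime to 23, fixing a lattice vector and containing `M22`: `χ - 2`
  is irreducible.
-/

set_option autoImplicit false

namespace Cfsg.Agent.H419.LeechFix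

open Cfsg Cfsg.Agent.H713 Cfsg.Agent.Characters.Core Cfsg.Agent.H419.LeechIrr
open Cfsg.Agent.H419.TwoTrans
open Cfsg.Agent.SporadicA.Co0Mono Cfsg.Agent.SporadicA.Co1Simple
open Cfsg.Agent.SporadicStructure.Co0Base (e8 e8_coe)
open Cfsg.Agent.Co2Type.Mono (tr8)

/-- Fixed points of an element of a point stabilizer. -/
theorem card_fixedBy_stab {A X : Type*} [Group A] [MulAction A X] [Finite X] (a : X)
    (s : MulAction.stabilizer A a) :
    Nat.card (MulAction.fixedBy X (s : A)) =
      Nat.card (MulAction.fixedBy (SubMulAction.ofStabilizer A a) s) + 1 := by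
  classical
  have e : MulAction.fixedBy X (s : A) ≃ Option (MulAction.fixedBy (SubMulAction.ofStabilizer A a) s) :=
    { toFun := fun x => if h : (x : X) = a then none else some ⟨⟨x, by
          rw [SubMulAction.mem_ofStabilizer_iff]; exact h⟩, Subtype.ext x.2⟩
      invFun := fun o => o.elim ⟨a, s.2⟩ fun y => ⟨y.1.1, congrArg Subtype.val y.2⟩
      left_inv := by
        intro x
        by_cases h : (x : X) = a
        · simp only [h, dif_pos, Option.elim_none]
          exact Subtype.ext h.symm
        · simp only [h, dif_neg, not_false_iff, Option.elim_some]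
      right_inv := by
        intro o
        cases o with
        | none => simp
        | some y =>
          have h : ((y : SubMulAction.ofStabilizer A a) : X) ≠ a := by
            have := y.1.2
            rwa [SubMulAction.mem_ofStabilizer_iff] at this
          simp [h] }
  rw [Nat.card_congr e, Finite.card_option]

/-- The trace of a coordinate permutation. -/
theorem tr8_perm (σ : M24) : tr8 (permCo0 σ) = 8 * (Nat.card (MulAction.fixedBy GolayPt σ) : ℤ) := by
  classical
  have h1 : ∀ i, ((permCo0 σ • e8 i : leechLattice) : GolayPt → ℤ) i =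
      if (σ : Equiv.Perm GolayPt) i = i then 8 else 0 := by
    intro i
    rw [perm_smul_e8, e8_coe, Pi.single_apply]
    by_cases h : (σ : Equiv.Perm GolayPt) i = i
    · rw [if_pos h, if_pos h.symm]
    · rw [if_neg h, if_neg (Ne.symm h)]
  unfold tr8
  rw [Finset.sum_congr rfl fun i _ => h1 i, ← Finset.sum_filter, Finset.sum_const, nsmul_eq_mul,
    mul_comm]
  congr 1
  rw [Nat.card_eq_fintype_card, Fintype.card_subtype]
  rfl

theorem lchi_perm {G : Type*} [Group G] (f : G →* Co0) {g : G} {σ : M24} (h : f g = permCo0 σ) :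
    lchi f g = (Nat.card (MulAction.fixedBy GolayPt σ) : ℂ) := by
  rw [lchi, h, tr8_perm]
  push_cast
  ring

section

variable {G : Type*} [Group G] [Finite G] [IsSimpleGroup G] (f : G →* Co0)

/-- `8 e_i` is not fixed by all elements if 25 divides the order of the group. -/
theorem not_fixed (hf : Function.Injective f) (h25 : 25 ∣ Nat.card G) (i : GolayPt) :
    ¬ ∀ g, f g • e8 i = e8 i := by
  intro h
  have h1 : f.range ≤ N := by
    rintro x ⟨g, rfl⟩
    exact Cfsg.Agent.KFacts.Co1.OctGen.mem_N_of_smul_e8 (h g)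
  have hfin : Finite Co0 := Cfsg.Agent.CoOneType.FrameFix.finite_co0
  have h2 : Nat.card f.range = Nat.card G :=
    (Nat.card_congr (MonoidHom.ofInjective hf).toEquiv).symm
  have h3 := Subgroup.card_dvd_of_le h1
  rw [h2, Cfsg.Agent.CoOneType.FrameFix.card_N] at h3
  have h4 := h25.trans h3
  revert h4
  norm_num

theorem finrank_inv_pos {w : leechLattice} (hw : w ≠ 0) (hfix : ∀ g, f g • w = w) :
    0 < Module.finrank ℂ (inv f) := by
  rw [Module.finrank_pos_iff_exists_ne_zero]
  refine ⟨⟨toC w, toC_mem_inv.2 hfix⟩, fun h => hw ?_⟩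
  apply toC_injective
  have h1 : toC w = 0 := congrArg Subtype.val h
  rw [h1]
  funext i
  simp [toC]

theorem finrank_inv_lt (hf : Function.Injective f) (h25 : 25 ∣ Nat.card G) {H : Type*} [Group H]
    (k : H →* G) (i : GolayPt) (hk : ∀ h, f (k h) • e8 i = e8 i) :
    Module.finrank ℂ (inv f) < Module.finrank ℂ (inv (f.comp k)) := by
  apply Submodule.finrank_lt_finrank_of_lt
  refine lt_of_le_of_ne ?_ ?_
  · intro v hv
    rw [Representation.mem_invariants] at hv ⊢
    intro h
    exact hv (k h)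
  · intro heq
    apply not_fixed f hf h25 i
    rw [← toC_mem_inv, heq, toC_mem_inv]
    exact hk

/-- The general form. -/
theorem irr_sub {H : Type*} [Group H] [Finite H] (k : H →* G) (hk : ∃ h, k h ≠ 1) {θ : IrrCharacter H}
    (hθ1 : (θ : H → ℂ) ≠ 1) {a : ℕ} (hres : ∀ h, lchi f (k h) = a + (θ : H → ℂ) h)
    (hf : Function.Injective f) (h25 : 25 ∣ Nat.card G)
    (i : GolayPt) (hki : ∀ h, f (k h) • e8 i = e8 i)
    {w : leechLattice} (hw : w ≠ 0) (hfix : ∀ g, f g • w = w) :
    ∃ (μ : IrrCharacter G) (m : ℕ), 0 < m ∧ m < a ∧ ∀ g, lchi f g = m + (μ : G → ℂ) g := by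
  have := Fintype.ofFinite G
  have := Fintype.ofFinite H
  obtain ⟨μ, hμ⟩ := irr_of_restrict k hk (isCharacter_lchi f) θ.2 hθ1 hres
  refine ⟨μ, Module.finrank ℂ (inv f), finrank_inv_pos f hw hfix, ?_, ?_⟩
  · have h1 := finrank_inv_lt f hf h25 k i hki
    have h2 : classInner (lchi (f.comp k)) 1 = a := by
      have : lchi (f.comp k) = (a : ℂ) • (1 : H → ℂ) + (θ : H → ℂ) := by
        funext h
        simpa [lchi] using hres h
      rw [this, classInner_add_left, classInner_smul_left, classInner_irr_self isIrr_one,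
        classInner_irr_ne θ.2 isIrr_one hθ1]
      simp
    rw [classInner_lchi] at h2
    have h3 : Module.finrank ℂ (inv (f.comp k)) = a := by exact_mod_cast h2
    omega
  · intro g
    rw [hμ g, classInner_lchi]

end

/-! ### `M23` and `M22` -/

/-- The stabilizer of the point `none`. -/
abbrev St1 := MulAction.stabilizer M24 (none : GolayPt)

abbrev X1 := SubMulAction.ofStabilizer M24 (none : GolayPt)

theorem z_mem : (some 0 : GolayPt) ∈ X1 := by
  rw [SubMulAction.mem_ofStabilizer_iff]
  simp

/-- The point `some 0`. -/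
abbrev pz : X1 := ⟨some 0, z_mem⟩

abbrev St2 := MulAction.stabilizer St1 pz

abbrev X2 := SubMulAction.ofStabilizer St1 pz

theorem card_X1 : Nat.card X1 = 23 := by
  rw [SubMulAction.nat_card_ofStabilizer_eq, Nat.card_eq_fintype_card]
  decide

theorem card_X2 : Nat.card X2 = 22 := by
  rw [SubMulAction.nat_card_ofStabilizer_eq, card_X1]

theorem four : MulAction.IsMultiplyPretransitive St1 X1 4 := by
  have h5 := Cfsg.Agent.S0366.result
  have h1 : MulAction.IsPretransitive M24 GolayPt := by
    rw [← MulAction.is_one_pretransitive_iff]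
    exact MulAction.isMultiplyPretransitive_of_le (n := 5) (by norm_num) (by
      rw [Nat.card_eq_fintype_card]
      decide)
  exact SubMulAction.ofStabilizer.isMultiplyPretransitive.1 h5

theorem three : MulAction.IsMultiplyPretransitive St2 X2 3 := by
  have h4 := four
  have h1 : MulAction.IsPretransitive St1 X1 := by
    rw [← MulAction.is_one_pretransitive_iff]
    exact MulAction.isMultiplyPretransitive_of_le (n := 4) (by norm_num) (by rw [card_X1]; norm_num)
  exact SubMulAction.ofStabilizer.isMultiplyPretransitive.1 h4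

theorem exists_irr1 : ∃ θ : IrrCharacter St1, (θ : St1 → ℂ) ≠ 1 ∧
    ∀ s : St1, (Nat.card (MulAction.fixedBy GolayPt (s : M24)) : ℂ) = (2 : ℕ) + (θ : St1 → ℂ) s := by
  obtain ⟨θ, hθ⟩ := exists_irr (G := St1) X1
    (by
      have h4 := four
      exact MulAction.isMultiplyPretransitive_of_le (n := 4) (by norm_num) (by rw [card_X1]; norm_num))
    (by rw [card_X1]; norm_num)
  have hs : ∀ s : St1, (Nat.card (MulAction.fixedBy GolayPt (s : M24)) : ℂ) = (2 : ℕ) + (θ : St1 → ℂ) s := by
    intro s
    rw [hθ, card_fixedBy_stab]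
    push_cast
    ring
  refine ⟨θ, fun h => ?_, hs⟩
  have h1 := hθ 1
  rw [h] at h1
  have h2 : Nat.card (MulAction.fixedBy X1 (1 : St1)) = 23 := by
    rw [MulAction.fixedBy_one_eq_univ, Nat.card_coe_set_eq, Set.ncard_univ, card_X1]
  rw [h2] at h1
  norm_num at h1

theorem exists_irr2 : ∃ θ : IrrCharacter St2, (θ : St2 → ℂ) ≠ 1 ∧
    ∀ s : St2, (Nat.card (MulAction.fixedBy GolayPt ((s : St1) : M24)) : ℂ) =
      (3 : ℕ) + (θ : St2 → ℂ) s := by
  obtain ⟨θ, hθ⟩ := exists_irr (G := St2) X2
    (by
      have h3 := three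
      exact MulAction.isMultiplyPretransitive_of_le (n := 3) (by norm_num) (by rw [card_X2]; norm_num))
    (by rw [card_X2]; norm_num)
  have hs : ∀ s : St2, (Nat.card (MulAction.fixedBy GolayPt ((s : St1) : M24)) : ℂ) =
      (3 : ℕ) + (θ : St2 → ℂ) s := by
    intro s
    rw [hθ, card_fixedBy_stab, card_fixedBy_stab]
    push_cast
    ring
  refine ⟨θ, fun h => ?_, hs⟩
  have h1 := hθ 1
  rw [h] at h1
  have h2 : Nat.card (MulAction.fixedBy X2 (1 : St2)) = 22 := by
    rw [MulAction.fixedBy_one_eq_univ, Nat.card_coe_set_eq, Set.ncard_univ, card_X2]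
  rw [h2] at h1
  norm_num at h1

section

variable {G : Type*} [Group G] [Finite G] [IsSimpleGroup G] (f : G →* Co0)

/-- The degree 23. -/
theorem irr23 (hf : Function.Injective f) (h25 : 25 ∣ Nat.card G) (k : St1 →* G)
    (hne : ∃ s, k s ≠ 1) (hk : ∀ s : St1, f (k s) = permCo0 (s : M24)) {w : leechLattice} (hw : w ≠ 0)
    (hfix : ∀ g, f g • w = w) :
    ∃ μ : IrrCharacter G, ∀ g, lchi f g = 1 + (μ : G → ℂ) g := by
  obtain ⟨θ, hθ1, hθ⟩ := exists_irr1
  obtain ⟨μ, m, h1, h2, h3⟩ := irr_sub f k hne hθ1 (a := 2)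
    (fun s => by rw [lchi_perm f (hk s), hθ s]) hf h25 none
    (fun s => by
      rw [hk, perm_smul_e8]
      exact congrArg e8 s.2) hw hfix
  have : m = 1 := by omega
  subst this
  exact ⟨μ, fun g => by rw [h3 g]; norm_num⟩

/-- The degree 22. -/
theorem irr22 (hf : Function.Injective f) (h25 : 25 ∣ Nat.card G) (h23 : ¬ 23 ∣ Nat.card G)
    (k : St2 →* G) (hne : ∃ s, k s ≠ 1) (hk : ∀ s : St2, f (k s) = permCo0 ((s : St1) : M24))
    {w : leechLattice} (hw : w ≠ 0) (hfix : ∀ g, f g • w = w) :
    ∃ μ : IrrCharacter G, ∀ g, lchi f g = 2 + (μ : G → ℂ) g := by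
  obtain ⟨θ, hθ1, hθ⟩ := exists_irr2
  obtain ⟨μ, m, h1, h2, h3⟩ := irr_sub f k hne hθ1 (a := 3)
    (fun s => by rw [lchi_perm f (hk s), hθ s]) hf h25 none
    (fun s => by
      rw [hk, perm_smul_e8]
      exact congrArg e8 (s : St1).2) hw hfix
  have h4 : m ≠ 1 := by
    rintro rfl
    apply h23
    have h5 := h3 1
    have h6 : lchi f 1 = 24 := by
      rw [lchi, map_one, Cfsg.Agent.SigZeroCo2.Lin.tr8_one]
      norm_num
    have h7 := Cfsg.Agent.Blocks.Basic.irr_one_eq_charDegree μ.2
    rw [h6, h7] at h5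
    have h8 : charDegree (μ : G → ℂ) = 23 := by
      have : (24 : ℂ) = ((1 + charDegree (μ : G → ℂ) : ℕ) : ℂ) := by rw [h5]; push_cast; ring
      have h9 : 24 = 1 + charDegree (μ : G → ℂ) := by exact_mod_cast this
      omega
    rw [← h8]
    exact Cfsg.Agent.Blocks.Knorr.charDegree_dvd μ.2
  have : m = 2 := by omega
  subst this
  exact ⟨μ, fun g => by rw [h3 g]; norm_num⟩

end

end Cfsg.Agent.H419.LeechFix
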