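import Cfsg.Agent.H419.Row

/-!
# Invariance of `⟨t * y⟩` under automorphisms

`t` an involution, `y` an element of odd prime order `p` commuting with `t`, the order of `C(t)`
not divisible by `p ^ 2`: if the automorphism `α` maps `t` to a conjugate of `t`, then it maps
`⟨t * y⟩` to a conjugate subgroup.
-/

set_option autoImplicit false

namespace Cfsg.Agent.H419.AutInv

open Cfsg Cfsg.Agent.H713 Cfsg.Agent.H419.Row Cfsg.Agent.H419.Count Subgroup

variable {G : Type*} [Group G]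

/-- Two elements of prime order `p` generate conjugate subgroups if `p ^ 2` does not divide the order
of the group. -/
theorem exists_conj_zpowers [Finite G] {p : ℕ} [hp : Fact p.Prime] (h1 : ¬ p ^ 2 ∣ Nat.card G)
    {y y' : G} (hy : orderOf y = p) (hy' : orderOf y' = p) :
    ∃ g : G, ∃ m : ℕ, g * y' * g⁻¹ = y ^ m := by
  have hz : ∀ w : G, orderOf w = p → IsPGroup p (zpowers w) := fun w hw =>
    IsPGroup.of_card (n := 1) (by rw [Nat.card_zpowers, hw, pow_one])
  have key : ∀ w : G, orderOf w = p → ∃ P : Sylow p G, (P : Subgroup G) = zpowers w := by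
    intro w hw
    obtain ⟨P, hP⟩ := (hz w hw).exists_le_sylow
    refine ⟨P, (Subgroup.eq_of_le_of_card_ge hP ?_).symm⟩
    rw [Nat.card_zpowers, hw]
    obtain ⟨n, hn⟩ := IsPGroup.iff_card.1 P.isPGroup'
    have hd := Subgroup.card_subgroup_dvd_card (P : Subgroup G)
    rw [hn] at hd ⊢
    have hn1 : n ≤ 1 := by
      by_contra hcon
      exact h1 ((pow_dvd_pow p (by omega)).trans hd)
    calc p ^ n ≤ p ^ 1 := Nat.pow_le_pow_right hp.out.pos hn1
      _ = p := pow_one p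
  obtain ⟨P, hP⟩ := key y hy
  obtain ⟨P', hP'⟩ := key y' hy'
  obtain ⟨g, hg⟩ := MulAction.exists_smul_eq G P' P
  refine ⟨g, ?_⟩
  have h2 : g * y' * g⁻¹ ∈ (P : Subgroup G) := by
    rw [← hg, Sylow.coe_subgroup_smul, Subgroup.mem_pointwise_smul_iff_inv_smul_mem]
    have : (MulAut.conj g)⁻¹ • (g * y' * g⁻¹) = y' := by
      rw [← map_inv]
      simp [mul_assoc]
    rw [this, hP']
    exact mem_zpowers y'
  rw [hP] at h2
  obtain ⟨m, hm⟩ := (mem_powers_iff_mem_zpowers (x := y) (y := g * y' * g⁻¹)).2 h2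
  exact ⟨m, hm.symm⟩

theorem zpowers_mul_pow [Finite G] {t y w : G} (hc : Commute t y)
    (hcop : (orderOf t).Coprime (orderOf y)) {m : ℕ} (hw : w = y ^ m) (ho : orderOf w = orderOf y) :
    zpowers (t * w) = zpowers (t * y) := by
  have hcw : Commute t w := hw ▸ hc.pow_right m
  have ht : t ∈ zpowers (t * y) := by
    obtain ⟨k, hk1, hk2⟩ := Nat.chineseRemainder hcop 1 0
    refine mem_zpowers_iff.2 ⟨k, ?_⟩
    rw [zpow_natCast, hc.mul_pow, (pow_eq_pow_iff_modEq).2 hk1, (pow_eq_pow_iff_modEq).2 hk2]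
    simp
  have hy : y ∈ zpowers (t * y) := by
    have := (zpowers (t * y)).mul_mem ((zpowers (t * y)).inv_mem ht) (mem_zpowers (t * y))
    rwa [inv_mul_cancel_left] at this
  apply Subgroup.eq_of_le_of_card_ge
  · rw [zpowers_le]
    exact mul_mem ht (hw ▸ pow_mem hy m)
  · rw [Nat.card_zpowers, Nat.card_zpowers, hc.orderOf_mul_eq_mul_orderOf_of_coprime hcop,
      hcw.orderOf_mul_eq_mul_orderOf_of_coprime (ho ▸ hcop), ho]

theorem exists_conj [Finite G] {t y : G} {p : ℕ} (hp : p.Prime) (hp2 : p ≠ 2)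
    (ht : orderOf t = 2) (hy : orderOf y = p) (hc : Commute t y)
    (h1 : ¬ p ^ 2 ∣ Nat.card (centralizer ({t} : Set G))) (α : MulAut G) (hα : IsConj t (α t)) :
    ∃ g : G, zpowers (g * α (t * y) * g⁻¹) = zpowers (t * y) := by
  have : Fact p.Prime := ⟨hp⟩
  obtain ⟨c, hc'⟩ := isConj_iff.1 hα
  -- `c * t * c⁻¹ = α t`
  have e1 : c⁻¹ * α t * c = t := by rw [← hc']; group
  have hmem : c⁻¹ * α y * c ∈ centralizer ({t} : Set G) := by
    rw [mem_centralizer_singleton_iff]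
    have h2 : α y * α t = α t * α y := by rw [← map_mul, ← map_mul, hc.eq]
    calc c⁻¹ * α y * c * t = c⁻¹ * α y * c * (c⁻¹ * α t * c) := by rw [e1]
      _ = c⁻¹ * (α y * α t) * c := by group
      _ = c⁻¹ * (α t * α y) * c := by rw [h2]
      _ = (c⁻¹ * α t * c) * (c⁻¹ * α y * c) := by group
      _ = t * (c⁻¹ * α y * c) := by rw [e1]
  have hymem : y ∈ centralizer ({t} : Set G) := by
    rw [mem_centralizer_singleton_iff]
    exact hc.eq.symm
  have ho' : orderOf (c⁻¹ * α y * c) = p := by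
    have h3 := (MulAut.conj c⁻¹).orderOf_eq (α y)
    rw [MulAut.conj_apply, inv_inv, MulEquiv.orderOf_eq] at h3
    rw [h3, hy]
  obtain ⟨g, m, hg⟩ := exists_conj_zpowers (G := centralizer ({t} : Set G)) h1
    (y := ⟨y, hymem⟩) (y' := ⟨c⁻¹ * α y * c, hmem⟩)
    (by rw [Subgroup.orderOf_mk, hy]) (by rw [Subgroup.orderOf_mk, ho'])
  have hg' : (g : G) * (c⁻¹ * α y * c) * (g : G)⁻¹ = y ^ m := congrArg Subtype.val hg
  refine ⟨g * c⁻¹, ?_⟩
  have hgt : (g : G) * t * (g : G)⁻¹ = t := by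
    rw [mem_centralizer_singleton_iff.1 g.2, mul_inv_cancel_right]
  have e2 : (g : G) * c⁻¹ * α (t * y) * ((g : G) * c⁻¹)⁻¹ = t * y ^ m := by
    calc (g : G) * c⁻¹ * α (t * y) * ((g : G) * c⁻¹)⁻¹
        = ((g : G) * (c⁻¹ * α t * c) * (g : G)⁻¹) * ((g : G) * (c⁻¹ * α y * c) * (g : G)⁻¹) := by
          rw [map_mul]; group
      _ = t * y ^ m := by rw [hg', e1, hgt]
  rw [e2]
  refine zpowers_mul_pow hc (by rw [ht, hy]; exact (Nat.coprime_primes Nat.prime_two hp).2 (Ne.symm hp2))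
    rfl ?_
  rw [← hg', ← MulAut.conj_apply, MulEquiv.orderOf_eq, ho', hy]

/-- The main tool: a `VZ` element `t * y` of order `2 * p`. -/
theorem evMix [Finite G] {t y : G} {p : ℕ} (hp : p.Prime) (hp2 : p ≠ 2)
    (ht : orderOf t = 2) (hy : orderOf y = p) (hc : Commute t y)
    (h1 : ¬ p ^ 2 ∣ Nat.card (centralizer ({t} : Set G))) (hα : ∀ α : MulAut G, IsConj t (α t))
    (hv : Van G (t * y)) : EvMix G := by
  refine evMix_of_order (x := t * y) (vz_of_van hv fun α => ?_) hp hp2 ?_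
  · exact exists_conj hp hp2 ht hy hc h1 α (hα α)
  · rw [hc.orderOf_mul_eq_mul_orderOf_of_coprime, ht, hy]
    rw [ht, hy]
    exact (Nat.coprime_primes Nat.prime_two hp).2 (Ne.symm hp2)

end Cfsg.Agent.H419.AutInv
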