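import Cfsg.Agent.H419.AutInv

/-!
# Rows with the order of the centralizer

`RowC S p c` : there is a `VZ` element of order `2 * p` whose centralizer has order `c`.
-/

set_option autoImplicit false

namespace Cfsg.Agent.H419.RowC

open Cfsg Cfsg.Agent.H713 Cfsg.Agent.H419.Row Cfsg.Agent.H419.Count Subgroup

/-- There is a `VZ` element of order `2 * p` whose centralizer has order `c`. -/
def RowC (S : Type*) [Group S] (p c : ℕ) : Prop :=
  ∃ x : S, orderOf x = 2 * p ∧ VZ S x ∧ Nat.card (centralizer ({x} : Set S)) = c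

variable {S : Type*} [Group S]

theorem RowC.evMix {p c : ℕ} (h : RowC S p c) (hp : p.Prime) (hp2 : p ≠ 2) : EvMix S := by
  obtain ⟨x, h1, h2, -⟩ := h
  exact evMix_of_order h2 hp hp2 h1

theorem card_centralizer_mulEquiv {H : Type*} [Group H] (e : S ≃* H) (x : S) :
    Nat.card (centralizer ({e x} : Set H)) = Nat.card (centralizer ({x} : Set S)) := by
  refine Nat.card_congr ⟨fun y => ⟨e.symm y, ?_⟩, fun y => ⟨e y, ?_⟩, fun y => ?_, fun y => ?_⟩
  · have := mem_centralizer_singleton_iff.1 y.2
    rw [mem_centralizer_singleton_iff]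
    apply e.injective
    rw [map_mul, map_mul, e.apply_symm_apply, this]
  · have := mem_centralizer_singleton_iff.1 y.2
    rw [mem_centralizer_singleton_iff, ← map_mul, this, map_mul]
  · exact Subtype.ext (e.apply_symm_apply _)
  · exact Subtype.ext (e.symm_apply_apply _)

theorem RowC.mulEquiv {H : Type*} [Group H] (e : S ≃* H) {p c : ℕ} (h : RowC S p c) : RowC H p c := by
  obtain ⟨x, h1, h2, h3⟩ := h
  exact ⟨e x, by rw [MulEquiv.orderOf_eq, h1], h2.mulEquiv e, by rw [card_centralizer_mulEquiv, h3]⟩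

/-- The main tool: a `VZ` element `t * y` of order `2 * p` with `c` elements commuting with `t` and
`y`. -/
theorem rowC [Finite S] {t y : S} {p c : ℕ} (hp : p.Prime) (hp2 : p ≠ 2)
    (ht : orderOf t = 2) (hy : orderOf y = p) (hc : Commute t y)
    (h1 : ¬ p ^ 2 ∣ Nat.card (centralizer ({t} : Set S))) (hα : ∀ α : MulAut S, IsConj t (α t))
    (hv : Van S (t * y)) (hcard : Nat.card (centralizer ({t * y} : Set S)) = c) : RowC S p c := by
  refine ⟨t * y, ?_, vz_of_van hv fun α => AutInv.exists_conj hp hp2 ht hy hc h1 α (hα α), hcard⟩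
  rw [hc.orderOf_mul_eq_mul_orderOf_of_coprime, ht, hy]
  rw [ht, hy]
  exact (Nat.coprime_primes Nat.prime_two hp).2 (Ne.symm hp2)

end Cfsg.Agent.H419.RowC
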